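import Mathlib.RingTheory.Kaehler.JacobiZariski
import Mathlib.RingTheory.Etale.Kaehler
import Mathlib.RingTheory.Smooth.Basic
import Mathlib.RingTheory.LocalRing.Module
import Mathlib.Algebra.Module.Projective
import Mathlib.RingTheory.Kaehler.Polynomial
import Mathlib.RingTheory.TensorProduct.Free

/-!
# Smooth and étale algebras in a tower, through differentials
-/

set_option autoImplicit false
set_option backward.isDefEq.respectTransparency false

open TensorProduct KaehlerDifferential

namespace Groth.L05.Kaehler

variable (R S T : Type*) [CommRing R] [CommRing S] [CommRing T]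
variable [Algebra R S] [Algebra R T] [Algebra S T] [IsScalarTower R S T]

theorem subsingleton_h1Cotangent_of_injective [Algebra.FormallySmooth R T]
    (h : Function.Injective (mapBaseChange R S T)) : Subsingleton (Algebra.H1Cotangent S T) := by
  refine subsingleton_of_forall_eq 0 fun x => ?_
  have h1 : Algebra.H1Cotangent.δ R S T x = 0 := h (by
    rw [map_zero]
    exact (Algebra.H1Cotangent.exact_δ_mapBaseChange R S T _).mpr ⟨x, rfl⟩)
  obtain ⟨y, rfl⟩ := (Algebra.H1Cotangent.exact_map_δ R S T x).mp h1
  rw [Subsingleton.elim y 0, map_zero]

theorem injective_of_formallySmooth [Algebra.FormallySmooth S T] :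
    Function.Injective (mapBaseChange R S T) := by
  rw [injective_iff_map_eq_zero]
  intro x hx
  obtain ⟨x, rfl⟩ := (Algebra.H1Cotangent.exact_δ_mapBaseChange R S T x).mp hx
  rw [Subsingleton.elim x 0, map_zero]

/-- A smooth algebra over a smaller base is étale when the differentials of the middle ring give all
its differentials. -/
theorem formallyEtale_of_bijective [Algebra.FormallySmooth R T]
    (h : Function.Bijective (mapBaseChange R S T)) : Algebra.FormallyEtale S T := by
  refine ⟨subsingleton_of_forall_eq 0 fun x => ?_, subsingleton_h1Cotangent_of_injective R S T h.1⟩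
  obtain ⟨x, rfl⟩ := map_surjective R S T x
  obtain ⟨y, rfl⟩ := h.2 x
  exact (exact_mapBaseChange_map R S T).apply_apply_eq_zero y

theorem formallyEtale_iff_bijective [Algebra.FormallySmooth R T] :
    Algebra.FormallyEtale S T ↔ Function.Bijective (mapBaseChange R S T) :=
  ⟨fun _ => (tensorKaehlerEquivOfFormallyEtale R S T).bijective, formallyEtale_of_bijective R S T⟩

/-- A smooth algebra over a smaller base is smooth over the middle ring when the differentials of
the middle ring form a direct summand. -/
theorem formallySmooth_iff_exists_retraction [Algebra.FormallySmooth R T] :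
    Algebra.FormallySmooth S T ↔
      ∃ r : Ω[T⁄R] →ₗ[T] T ⊗[S] Ω[S⁄R], r ∘ₗ mapBaseChange R S T = LinearMap.id := by
  have hex : Function.Exact (mapBaseChange R S T) (map R S T T) := exact_mapBaseChange_map R S T
  have hs : Function.Surjective (map R S T T) := map_surjective R S T
  constructor
  · intro _
    obtain ⟨l, hl⟩ := Module.projective_lifting_property (map R S T T) LinearMap.id hs
    have h01 := (Function.Exact.split_tfae' hex).out 0 1 rfl rfl
    exact (h01.mp ⟨injective_of_formallySmooth R S T, l, hl⟩).2
  · rintro ⟨r, hr⟩
    have h10 := (Function.Exact.split_tfae' hex).out 1 0 rfl rfl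
    obtain ⟨-, l, hl⟩ := h10.mp ⟨hs, r, hr⟩
    exact ⟨Module.Projective.of_split l (map R S T T) hl,
      subsingleton_h1Cotangent_of_injective R S T
        (Function.HasLeftInverse.injective ⟨r, LinearMap.congr_fun hr⟩)⟩

/-- A smooth algebra is étale over a polynomial ring iff the differentials of the coordinates form
a basis. -/
theorem formallyEtale_mvPolynomial_iff (σ : Type*) (A T : Type*) [CommRing A] [CommRing T]
    [Algebra A T] [Algebra (MvPolynomial σ A) T] [IsScalarTower A (MvPolynomial σ A) T]
    [Algebra.FormallySmooth A T] :
    Algebra.FormallyEtale (MvPolynomial σ A) T ↔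
      LinearIndependent T (fun i => D A T (algebraMap (MvPolynomial σ A) T (MvPolynomial.X i))) ∧
        Submodule.span T (Set.range fun i =>
          D A T (algebraMap (MvPolynomial σ A) T (MvPolynomial.X i))) = ⊤ := by
  rw [formallyEtale_iff_bijective A]
  let b := Algebra.TensorProduct.basis T (mvPolynomialBasis A σ)
  have hb : ∀ i, mapBaseChange A (MvPolynomial σ A) T (b i) =
      D A T (algebraMap (MvPolynomial σ A) T (MvPolynomial.X i)) := fun i => by
    simp [b, mvPolynomialBasis_apply]
  constructor
  · intro h
    let c := b.map (LinearEquiv.ofBijective _ h)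
    have hc : ⇑c = fun i => D A T (algebraMap (MvPolynomial σ A) T (MvPolynomial.X i)) :=
      funext fun i => by rw [Module.Basis.map_apply]; exact hb i
    exact ⟨hc ▸ c.linearIndependent, hc ▸ c.span_eq⟩
  · rintro ⟨h1, h2⟩
    let c := Module.Basis.mk h1 h2.ge
    have he : mapBaseChange A (MvPolynomial σ A) T = (b.equiv c (Equiv.refl σ)).toLinearMap :=
      b.ext fun i => by simp [c, hb]
    rw [he]
    exact (b.equiv c (Equiv.refl σ)).bijective

end Groth.L05.Kaehler
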